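import Mathlib
import Cfsg.Agent.Lib.Classical.LowRank.Basic

/-!
Alternating `4 × 4` matrices with the Pfaffian, under congruence by a matrix group.
-/

set_option autoImplicit false

namespace Cfsg.Agent.Lib.Classical.LowRank

open Matrix

variable (F : Type*) [Field F]

/-- the alternating matrix of Plücker coordinates -/
def altEmb : (Fin 3 ⊕ Fin 3 → F) →ₗ[F] Matrix (Fin 4) (Fin 4) F where
  toFun v :=
    !![0, v (.inl 0), v (.inl 1), v (.inl 2); -v (.inl 0), 0, v (.inr 2), -v (.inr 1);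
      -v (.inl 1), -v (.inr 2), 0, v (.inr 0); -v (.inl 2), v (.inr 1), -v (.inr 0), 0]
  map_add' u v := by ext i j; fin_cases i <;> fin_cases j <;> simp <;> ring
  map_smul' c v := by ext i j; fin_cases i <;> fin_cases j <;> simp

/-- Plücker coordinates -/
def altProj : Matrix (Fin 4) (Fin 4) F →ₗ[F] (Fin 3 ⊕ Fin 3 → F) where
  toFun X := Sum.elim ![X 0 1, X 0 2, X 0 3] ![X 2 3, -X 1 3, X 1 2]
  map_add' X Y := by funext i; rcases i with i | i <;> fin_cases i <;> simp <;> ring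
  map_smul' c X := by funext i; rcases i with i | i <;> fin_cases i <;> simp

variable {F}

theorem altProj_altEmb (v : Fin 3 ⊕ Fin 3 → F) : altProj F (altEmb F v) = v := by
  funext i; rcases i with i | i <;> fin_cases i <;> simp [altEmb, altProj]

theorem altEmb_altProj (Y : Matrix (Fin 4) (Fin 4) F) (hd : ∀ i, Y i i = 0) (hs : ∀ i j, Y j i = -Y i j) :
    altEmb F (altProj F Y) = Y := by
  ext i j
  fin_cases i <;> fin_cases j <;>
    first
      | (simp [altEmb, altProj]; done)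
      | (simp [altEmb, altProj, hd]; done)
      | (simp [altEmb, altProj]; rw [hs]; simp)

theorem altEmb_stable (g : Matrix (Fin 4) (Fin 4) F) (v : Fin 3 ⊕ Fin 3 → F) :
    altEmb F (altProj F (g * (altEmb F v * gᵀ))) = g * (altEmb F v * gᵀ) := by
  set U : Matrix (Fin 4) (Fin 4) F :=
    !![0, v (.inl 0), v (.inl 1), v (.inl 2); 0, 0, v (.inr 2), -v (.inr 1); 0, 0, 0, v (.inr 0); 0, 0, 0, 0]
    with hU
  have hM : altEmb F v = U - Uᵀ := by
    ext i j
    fin_cases i <;> fin_cases j <;> simp [altEmb, hU]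
  have hY : g * (altEmb F v * gᵀ) = g * U * gᵀ - (g * U * gᵀ)ᵀ := by
    rw [hM, transpose_mul, transpose_mul, transpose_transpose, Matrix.sub_mul, Matrix.mul_sub,
      Matrix.mul_assoc, ← Matrix.mul_assoc g Uᵀ gᵀ, Matrix.mul_assoc]
  rw [hY]
  refine altEmb_altProj _ (fun i => ?_) (fun i j => ?_)
  · rw [Matrix.sub_apply, Matrix.transpose_apply, sub_self]
  · rw [Matrix.sub_apply, Matrix.sub_apply, Matrix.transpose_apply, Matrix.transpose_apply, neg_sub]

theorem det_fin_four (A : Matrix (Fin 4) (Fin 4) F) :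
    A.det = A 0 0 * (A 1 1 * A 2 2 * A 3 3 - A 1 1 * A 2 3 * A 3 2 - A 1 2 * A 2 1 * A 3 3
        + A 1 2 * A 2 3 * A 3 1 + A 1 3 * A 2 1 * A 3 2 - A 1 3 * A 2 2 * A 3 1)
      - A 0 1 * (A 1 0 * A 2 2 * A 3 3 - A 1 0 * A 2 3 * A 3 2 - A 1 2 * A 2 0 * A 3 3
        + A 1 2 * A 2 3 * A 3 0 + A 1 3 * A 2 0 * A 3 2 - A 1 3 * A 2 2 * A 3 0)
      + A 0 2 * (A 1 0 * A 2 1 * A 3 3 - A 1 0 * A 2 3 * A 3 1 - A 1 1 * A 2 0 * A 3 3
        + A 1 1 * A 2 3 * A 3 0 + A 1 3 * A 2 0 * A 3 1 - A 1 3 * A 2 1 * A 3 0)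
      - A 0 3 * (A 1 0 * A 2 1 * A 3 2 - A 1 0 * A 2 2 * A 3 1 - A 1 1 * A 2 0 * A 3 2
        + A 1 1 * A 2 2 * A 3 0 + A 1 2 * A 2 0 * A 3 1 - A 1 2 * A 2 1 * A 3 0) := by
  rw [Matrix.det_succ_row_zero]
  simp [Fin.sum_univ_succ, Matrix.det_fin_three, Fin.succAbove]
  ring

set_option maxHeartbeats 2000000 in
theorem pfaffian_congr (g : Matrix (Fin 4) (Fin 4) F) (v : Fin 3 ⊕ Fin 3 → F) :
    Cfsg.quadFormPlus 3 F (altProj F (g * (altEmb F v * gᵀ))) = g.det * Cfsg.quadFormPlus 3 F v := by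
  rw [det_fin_four]
  simp [Cfsg.quadFormPlus, altProj, altEmb, Fin.sum_univ_three, Matrix.mul_apply, Matrix.vecMul, dotProduct,
    Fin.sum_univ_four]
  ring

variable {S : Type*} [Group S]

/-- `X ↦ φ(s) X φ(s)ᵀ` -/
noncomputable def altAct (φ : S →* Matrix (Fin 4) (Fin 4) F) :
    S →* Module.End F (Matrix (Fin 4) (Fin 4) F) :=
  sandwich φ (fun s => (φ s)ᵀ) (by simp) (fun a b => by rw [map_mul, transpose_mul])

theorem altAct_apply (φ : S →* Matrix (Fin 4) (Fin 4) F) (s : S) (X : Matrix (Fin 4) (Fin 4) F) :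
    altAct φ s X = φ s * (X * (φ s)ᵀ) := rfl

theorem altAct_scalar (φ : S →* Matrix (Fin 4) (Fin 4) F) {s : S} {r : F}
    (hr : φ s = Matrix.scalar (Fin 4) r) (X : Matrix (Fin 4) (Fin 4) F) : altAct φ s X = r ^ 2 • X := by
  rw [altAct_apply, hr]
  ext i j
  simp [Matrix.scalar_apply, Matrix.diagonal_transpose, Matrix.diagonal_mul, Matrix.mul_diagonal]
  ring

/-- `S → O⁺_6` -/
noncomputable def repAlt (φ : S →* Matrix (Fin 4) (Fin 4) F) (hdet : ∀ s, (φ s).det = 1) :
    S →* Cfsg.isometryGroup F (Cfsg.quadFormPlus 3 F) :=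
  modelHom _ (altAct φ) (altEmb F) (altProj F) altProj_altEmb (fun s v => by rw [altAct_apply]; exact altEmb_stable _ _)
    (fun s v => by rw [altAct_apply, pfaffian_congr, hdet, one_mul])

theorem scalar_mem_ker_repAlt (φ : S →* Matrix (Fin 4) (Fin 4) F) (hdet : ∀ s, (φ s).det = 1) {s : S}
    {r : F} (hr : φ s = Matrix.scalar (Fin 4) r) : s ∈ (repAlt φ hdet).ker ↔ r ^ 2 = 1 := by
  rw [repAlt, mem_ker_modelHom]
  constructor
  · intro h
    have h1 := h (Sum.elim ![1, 0, 0] 0)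
    rw [altAct_scalar φ hr] at h1
    simpa [altEmb] using congrFun (congrFun h1 0) 1
  · intro h v
    rw [altAct_scalar φ hr, h, one_smul]

theorem natCard_sq_eq_one [Fintype F] :
    Nat.card {r : F // r ^ 2 = 1} = if Even (Fintype.card F) then 1 else 2 := by
  classical
  rw [Nat.card_eq_fintype_card, Fintype.card_subtype]
  have h : (Finset.univ.filter fun r : F => r ^ 2 = 1) = {1, -1} := by
    ext r; simp [sq, mul_self_eq_one_iff]
  rw [h]
  split_ifs with he
  · haveI : CharP F 2 := by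
      refine CharTwo.of_one_ne_zero_of_two_eq_zero one_ne_zero ?_
      by_contra h2
      have hne : ringChar F ≠ 2 := fun e => h2 (by
        haveI : CharP F 2 := e ▸ ringChar.charP F
        exact CharTwo.two_eq_zero)
      have := FiniteField.odd_card_of_char_ne_two hne
      rw [Nat.even_iff] at he
      omega
    rw [CharTwo.neg_eq]
    simp
  · rw [Finset.card_pair]
    intro e
    have h2 : (2 : F) = 0 := by linear_combination e
    haveI : CharP F 2 := CharTwo.of_one_ne_zero_of_two_eq_zero one_ne_zero h2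
    exact he (Nat.even_iff.2 (FiniteField.even_card_of_char_two (ringChar.eq F 2)))

/-- a non-trivial representation of a quasisimple group has central kernel -/
theorem ker_le_center_of_simple {G : Type*} [Group G] {H : Type*} [Group H]
    (hsimple : IsSimpleGroup (G ⧸ Subgroup.center G)) (hperf : commutator G = ⊤) (ψ : G →* H)
    (hne : ∃ s, ψ s ≠ 1) : ψ.ker ≤ Subgroup.center G := by
  rcases ((ψ.normal_ker).map (QuotientGroup.mk' (Subgroup.center G))
    (QuotientGroup.mk'_surjective _)).eq_bot_or_eq_top with hb | ht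
  · intro s hs
    have := Subgroup.mem_map_of_mem (QuotientGroup.mk' (Subgroup.center G)) hs
    rw [hb, Subgroup.mem_bot] at this
    exact (QuotientGroup.eq_one_iff s).1 this
  · exfalso
    obtain ⟨s, hs⟩ := hne
    apply hs
    have hle : commutator G ≤ ψ.ker := by
      rw [commutator_def, Subgroup.commutator_le]
      intro a _ b _
      have hdec : ∀ a : G, ∃ m ∈ ψ.ker, ∀ y, Commute (m⁻¹ * a) y := by
        intro a
        obtain ⟨m, hm, hma⟩ := (ht ▸ Subgroup.mem_top (QuotientGroup.mk' (Subgroup.center G) a) :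
          QuotientGroup.mk' _ a ∈ ψ.ker.map (QuotientGroup.mk' (Subgroup.center G)))
        exact ⟨m, hm, fun y => (Subgroup.mem_center_iff.1 (QuotientGroup.eq.1 hma) y).symm⟩
      obtain ⟨m, hm, hma⟩ := hdec a
      obtain ⟨k, hk, hkb⟩ := hdec b
      have ea : ψ a = ψ (m⁻¹ * a) := by rw [map_mul, map_inv, MonoidHom.mem_ker.1 hm, inv_one, one_mul]
      have eb : ψ b = ψ (k⁻¹ * b) := by rw [map_mul, map_inv, MonoidHom.mem_ker.1 hk, inv_one, one_mul]
      rw [MonoidHom.mem_ker, map_commutatorElement, ea, eb]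
      exact commutatorElement_eq_one_iff_mul_comm.2 (Commute.map (hma _) ψ)
    exact MonoidHom.mem_ker.1 (hle (hperf ▸ Subgroup.mem_top s))

theorem natCard_ker_repAlt [Fintype F] (φ : S →* Matrix (Fin 4) (Fin 4) F) (hdet : ∀ s, (φ s).det = 1)
    (hinj : Function.Injective φ)
    (hscal : ∀ s ∈ (repAlt φ hdet).ker, ∃ r, φ s = Matrix.scalar (Fin 4) r)
    (hback : ∀ r : F, r ^ 2 = 1 → ∃ s, φ s = Matrix.scalar (Fin 4) r) :
    Nat.card (repAlt φ hdet).ker = if Even (Fintype.card F) then 1 else 2 := by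
  classical
  rw [← natCard_sq_eq_one]
  choose f hf using hback
  choose r hr using hscal
  refine Nat.card_congr ⟨fun s => ⟨r s.1 s.2, (scalar_mem_ker_repAlt φ hdet (hr s.1 s.2)).1 s.2⟩,
    fun x => ⟨f x.1 x.2, (scalar_mem_ker_repAlt φ hdet (hf x.1 x.2)).2 x.2⟩, fun s => ?_, fun x => ?_⟩
  · refine Subtype.ext (hinj ?_)
    rw [hf, ← hr]
  · refine Subtype.ext ?_
    have h := hr (f x.1 x.2) ((scalar_mem_ker_repAlt φ hdet (hf x.1 x.2)).2 x.2)
    rw [hf] at h
    simpa using (congrFun (congrFun h 0) 0).symm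

end Cfsg.Agent.Lib.Classical.LowRank
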