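import Mathlib
import Cfsg.Agent.Lib.Classical.LowRank.Alt
import Cfsg.Agent.Lib.Classical.UnitaryStandard

/-!
`SU_4` stabilises the Plücker vectors `w` with `w(inr i) = w(inl i) ^ q`.
-/

set_option autoImplicit false

namespace Cfsg.Agent.Lib.Classical.LowRank

open Matrix

variable {K : Type*} [Field K] [Fintype K] {q : ℕ}

/-- `SU_4` as matrices -/
noncomputable def suMat (K : Type*) [Field K] (q : ℕ) : Cfsg.SU 4 K q →* Matrix (Fin 4) (Fin 4) K where
  toFun g := g.1.1
  map_one' := rfl
  map_mul' _ _ := rfl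

theorem det_suMat (g : Cfsg.SU 4 K q) : (suMat K q g).det = 1 := g.1.2

/-- the twisted condition -/
def Twisted (q : ℕ) (w : Fin 3 ⊕ Fin 3 → K) : Prop := ∀ i, w (.inr i) = w (.inl i) ^ q

set_option maxHeartbeats 1000000 in
theorem twisted_transvection (hK : Fintype.card K = q ^ 2) (v : Fin 4 → K) (c : K)
    (hv : Cfsg.hermForm 4 K q v v = 0) (hc : c + c ^ q = 0) (w : Fin 3 ⊕ Fin 3 → K) (hw : Twisted q w) :
    Twisted q (altProj K (Cfsg.unitaryTransvection 4 q v c *
      (altEmb K w * (Cfsg.unitaryTransvection 4 q v c)ᵀ))) := by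
  have hs : ∀ x : K, x ^ q = Forms.qPowHom hK x := fun x => (Forms.qPowHom_apply hK x).symm
  have hss : ∀ x : K, Forms.qPowHom hK (Forms.qPowHom hK x) = x := fun x => by
    rw [← hs, ← hs, Forms.pow_q_pow_q hK]
  have h0 := hw 0
  have h1 := hw 1
  have h2 := hw 2
  rw [hs] at h0 h1 h2 hc
  simp only [Cfsg.hermForm, Fin.sum_univ_four, hs] at hv
  intro i
  rw [hs]
  fin_cases i <;>
  · simp [altProj, altEmb, Cfsg.unitaryTransvection, hs, Matrix.mul_apply, Matrix.vecMul, dotProduct,
      Matrix.vecMulVec, Fin.sum_univ_four, Matrix.one_apply, h0, h1, h2, map_add, map_sub, map_mul, map_neg, hss,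
      -Forms.qPowHom_apply]
    have hc' : Forms.qPowHom hK c = -c := by linear_combination hc
    rw [hc']
    first
      | ring1
      | linear_combination (c * Forms.qPowHom hK (w (.inl 0))) * hv
      | linear_combination (-(c * Forms.qPowHom hK (w (.inl 0)))) * hv
      | linear_combination (c * Forms.qPowHom hK (w (.inl 1))) * hv
      | linear_combination (-(c * Forms.qPowHom hK (w (.inl 1)))) * hv
      | linear_combination (c * Forms.qPowHom hK (w (.inl 2))) * hv
      | linear_combination (-(c * Forms.qPowHom hK (w (.inl 2)))) * hv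

theorem twisted_SU (hK : Fintype.card K = q ^ 2) (g : Cfsg.SU 4 K q) (w : Fin 3 ⊕ Fin 3 → K)
    (hw : Twisted q w) : Twisted q (altProj K (altAct (suMat K q) g (altEmb K w))) := by
  let P : Cfsg.SU 4 K q → Prop := fun g =>
    ∀ w, Twisted q w → Twisted q (altProj K (altAct (suMat K q) g (altEmb K w)))
  suffices h : P g from h w hw
  have hmul : ∀ g h, P g → P h → P (g * h) := by
    intro g h hg hh w hw
    have e : altEmb K (altProj K (altAct (suMat K q) h (altEmb K w))) = altAct (suMat K q) h (altEmb K w) := by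
      rw [altAct_apply]; exact altEmb_stable _ _
    rw [map_mul]
    show Twisted q (altProj K (altAct (suMat K q) g (altAct (suMat K q) h (altEmb K w))))
    rw [← e]
    exact hg _ (hh w hw)
  have hone : P 1 := fun w hw => by
    rw [map_one]
    show Twisted q (altProj K (altEmb K w))
    rw [altProj_altEmb]; exact hw
  have hgen := closure_transvections_SU hK 2 (by norm_num) (by norm_num)
  have hmem : g ∈ Subgroup.closure {A : ↥(Cfsg.SU (2 + 2) K q) | ∃ (v : Fin (2 + 2) → K) (c : K),
      Cfsg.hermForm (2 + 2) K q v v = 0 ∧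
      ((A : Matrix.SpecialLinearGroup (Fin (2 + 2)) K) : Matrix (Fin (2 + 2)) (Fin (2 + 2)) K)
        = Cfsg.unitaryTransvection (2 + 2) q v c} := by rw [hgen]; trivial
  induction hmem using Subgroup.closure_induction with
  | mem A hA =>
    obtain ⟨v, c, hv, hA⟩ := hA
    by_cases hv0 : v = 0
    · have : A = 1 := Subtype.ext (Subtype.ext (by
        rw [hA, hv0]; simp [Cfsg.unitaryTransvection]))
      rw [this]; exact hone
    have hc : c + c ^ q = 0 := by
      obtain ⟨y0, hy0⟩ : ∃ y, Cfsg.hermForm 4 K q v y ≠ 0 := by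
        by_contra hne
        push Not at hne
        exact hv0 ((hermSpace_std hK 4).nondeg v hne)
      have hy0' : Cfsg.hermForm 4 K q y0 v ≠ 0 := fun e => hy0 (by
        rw [← Forms.herm_conj hK y0 v, e, zero_pow (by have := Forms.two_le_of_card_sq hK; omega)])
      set y := (Cfsg.hermForm 4 K q y0 v)⁻¹ • y0
      have hy : Cfsg.hermForm 4 K q y v = 1 := by
        rw [Forms.herm_smul_left hK, inv_mul_cancel₀ hy0']
      have hy' : Cfsg.hermForm 4 K q v y = 1 := by rw [← Forms.herm_conj hK y v, hy, one_pow]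
      clear_value y
      have h := A.2 y y
      change Cfsg.hermForm 4 K q (A.1.1 *ᵥ y) (A.1.1 *ᵥ y) = _ at h
      rw [hA, Forms.unitaryTransvection_mulVec, hy, mul_one, Forms.herm_add_left hK, Forms.herm_add_right hK,
        Forms.herm_add_right hK, Forms.herm_smul_left hK, Forms.herm_smul_left hK, Forms.herm_smul_right hK,
        Forms.herm_smul_right hK, hy, hy', hv] at h
      linear_combination h
    intro w hw
    rw [altAct_apply]
    show Twisted q (altProj K (A.1.1 * (altEmb K w * (A.1.1)ᵀ)))
    rw [hA]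
    exact twisted_transvection hK v c hv hc w hw
  | one => exact hone
  | mul x y _ _ hx hy => exact hmul x y hx hy
  | inv x _ hx =>
    haveI : Finite (Cfsg.SU (2 + 2) K q) := inferInstance
    have hpow : ∀ k : ℕ, P (x ^ k) := fun k => by
      induction k with
      | zero => rw [pow_zero]; exact hone
      | succ k ih => rw [pow_succ]; exact hmul _ _ ih hx
    have : x⁻¹ = x ^ (orderOf x - 1) := by
      rw [inv_eq_iff_mul_eq_one, ← pow_succ', Nat.sub_add_cancel (orderOf_pos x), pow_orderOf_eq_one]
    rw [this]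
    exact hpow _

end Cfsg.Agent.Lib.Classical.LowRank
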