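import Mathlib
import Cfsg.Agent.Lib.Classical.UnitaryTwo

/-!
The quadratic extension attached to an anisotropic binary form.
-/

set_option autoImplicit false

namespace Cfsg.Agent.Lib.Classical.LowRank

variable {F K : Type*} [Field F] [Fintype F] [Field K] [Fintype K]

theorem exists_root_embedding {q : ℕ} (hF : Fintype.card F = q) (hK : Fintype.card K = q ^ 2) (a b : F)
    (hab : ∀ z₁ z₂ : F, z₁ ^ 2 + a * z₁ * z₂ + b * z₂ ^ 2 = 0 → z₁ = 0 ∧ z₂ = 0) :
    ∃ (ι : F →+* K) (θ : K), θ ^ 2 - ι a * θ + ι b = 0 ∧ ∀ x : F, ι x ^ q = ι x := by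
  classical
  let f : Polynomial F := Polynomial.X ^ 2 - Polynomial.C a * Polynomial.X + Polynomial.C b
  have hdeg : f.natDegree = 2 := by simp only [f]; compute_degree!
  have hmon : f.Monic := by simp only [f]; monicity!
  haveI hirr : Fact (Irreducible f) := ⟨by
    rw [hmon.irreducible_iff_roots_eq_zero_of_degree_le_three (by omega) (by omega)]
    refine Multiset.eq_zero_of_forall_notMem fun r hr => ?_
    rw [Polynomial.mem_roots hmon.ne_zero] at hr
    simp [f] at hr
    exact neg_ne_zero.2 one_ne_zero (hab r (-1) (by linear_combination hr)).2⟩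
  haveI : Module.Finite F (AdjoinRoot f) := hmon.finite_adjoinRoot
  haveI : Finite (AdjoinRoot f) := Module.finite_of_finite F
  haveI := Fintype.ofFinite (AdjoinRoot f)
  have hcard : Fintype.card (AdjoinRoot f) = Fintype.card K := by
    rw [hK, ← hF, Module.card_eq_pow_finrank (K := F) (V := AdjoinRoot f),
      (AdjoinRoot.powerBasis hmon.ne_zero).finrank, AdjoinRoot.powerBasis_dim, hdeg]
  let E := FiniteField.ringEquivOfCardEq (K := AdjoinRoot f) (K' := K) hcard
  refine ⟨E.toRingHom.comp (AdjoinRoot.of f), E (AdjoinRoot.root f), ?_, fun x => ?_⟩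
  · have h := congrArg E (AdjoinRoot.eval₂_root f)
    simpa [f, Polynomial.eval₂_sub, Polynomial.eval₂_add] using h
  · rw [← map_pow, ← hF, FiniteField.pow_card]

theorem exists_quad_data {q : ℕ} (hF : Fintype.card F = q) (hK : Fintype.card K = q ^ 2) (a b : F)
    (hab : ∀ z₁ z₂ : F, z₁ ^ 2 + a * z₁ * z₂ + b * z₂ ^ 2 = 0 → z₁ = 0 ∧ z₂ = 0) :
    ∃ (ι : F →+* K) (θ : K), (∀ x : K, x ^ q = x ↔ ∃ y, ι y = x) ∧ θ + θ ^ q = ι a ∧ θ * θ ^ q = ι b ∧
      Function.Bijective (fun z : F × F => ι z.1 + θ * ι z.2) := by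
  classical
  obtain ⟨ι, θ, hroot, hfix⟩ := exists_root_embedding hF hK a b hab
  obtain ⟨ι', hι'⟩ := exists_fixedField_equiv hK hF
  have hfixed : ∀ x : K, x ^ q = x ↔ ∃ y, ι y = x := by
    intro x
    refine ⟨fun hx => ?_, fun ⟨y, hy⟩ => hy ▸ hfix y⟩
    have hsub : Finset.univ.image ι ⊆ Finset.univ.image ι' := fun z hz => by
      obtain ⟨y, -, rfl⟩ := Finset.mem_image.1 hz
      obtain ⟨y', hy'⟩ := (hι' _).1 (hfix y)
      exact Finset.mem_image.2 ⟨y', Finset.mem_univ _, hy'⟩
    have heq := Finset.eq_of_subset_of_card_le hsub (le_of_eq (by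
      rw [Finset.card_image_of_injective _ ι'.injective, Finset.card_image_of_injective _ ι.injective]))
    obtain ⟨y', hy'⟩ := (hι' x).1 hx
    have hm : x ∈ Finset.univ.image ι := heq ▸ Finset.mem_image.2 ⟨y', Finset.mem_univ _, hy'⟩
    obtain ⟨y, -, hy⟩ := Finset.mem_image.1 hm
    exact ⟨y, hy⟩
  have hnot : ∀ y, ι y ≠ θ := fun y hy => by
    rw [← hy, ← map_pow, ← map_mul, ← map_sub, ← map_add, map_eq_zero] at hroot
    exact neg_ne_zero.2 one_ne_zero (hab y (-1) (by linear_combination hroot)).2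
  have hinj : Function.Injective (fun z : F × F => ι z.1 + θ * ι z.2) := by
    intro z w hzw
    have h2 : z.2 = w.2 := by
      by_contra hne
      have h0 : ι (z.2 - w.2) ≠ 0 := (map_ne_zero ι).2 (sub_ne_zero.2 hne)
      refine hnot ((w.1 - z.1) / (z.2 - w.2)) ?_
      rw [map_div₀, div_eq_iff h0, map_sub, map_sub]
      linear_combination (-1 : K) * hzw
    refine Prod.ext (ι.injective ?_) h2
    simpa [h2] using hzw
  have hadd : ∀ x y : K, (x + y) ^ q = x ^ q + y ^ q := qpow_add hK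
  have hne : θ ^ q ≠ θ := fun h => (hfixed θ).1 h |>.elim fun y hy => hnot y hy
  have hroot' : (θ ^ q) ^ 2 - ι a * θ ^ q + ι b = 0 := by
    have h := congrArg (Forms.qPowHom hK) hroot
    simp only [map_add, map_sub, map_mul, map_pow, map_zero, Forms.qPowHom_apply, hfix] at h
    exact h
  have hsum : θ + θ ^ q = ι a := by
    have h : (θ ^ q - θ) * (θ + θ ^ q - ι a) = 0 := by linear_combination hroot' - hroot
    exact sub_eq_zero.1 ((mul_eq_zero.1 h).resolve_left (sub_ne_zero.2 hne))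
  refine ⟨ι, θ, hfixed, hsum, by linear_combination θ * hsum - hroot, hinj, ?_⟩
  exact (Fintype.bijective_iff_injective_and_card _).2 ⟨hinj, by
    rw [Fintype.card_prod, hF, hK, sq]⟩ |>.2

end Cfsg.Agent.Lib.Classical.LowRank
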