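import Mathlib
import Cfsg.Agent.Lib.Classical.LowRank.Index
import Cfsg.Agent.Lib.Classical.LowRank.QuadExt
import Cfsg.Agent.Lib.LinGroup.Simple

/-!
`PΩ⁻_4(q) ≅ PSL_2(q²)` by Hermitian `2 × 2` matrices.
-/

set_option autoImplicit false

namespace Cfsg.Agent.Lib.Classical.LowRank

open Matrix

variable {F K : Type*} [Field F] [Field K] [Algebra F K] (σ : K →+* K)

/-- `X ↦ g X σ(g)ᵀ` -/
noncomputable def actHerm : Matrix.SpecialLinearGroup (Fin 2) K →* Module.End F (Matrix (Fin 2) (Fin 2) K) :=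
  sandwich { toFun := fun g => g.1, map_one' := rfl, map_mul' := fun _ _ => rfl }
    (fun g => (g.1.map σ)ᵀ) (by simp)
    (fun g h => by rw [Matrix.SpecialLinearGroup.coe_mul, Matrix.map_mul, Matrix.transpose_mul])

theorem actHerm_apply (g : Matrix.SpecialLinearGroup (Fin 2) K) (X : Matrix (Fin 2) (Fin 2) K) :
    actHerm (F := F) σ g X = g.1 * (X * (g.1.map σ)ᵀ) := rfl

theorem nonempty_POmega_minus_four {F K : Type*} [Field F] [Fintype F] [Field K] [Fintype K] {q : ℕ}
    (hF : Fintype.card F = q) (hK : Fintype.card K = q ^ 2) (a b : F)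
    (hab : ∀ z₁ z₂ : F, z₁ ^ 2 + a * z₁ * z₂ + b * z₂ ^ 2 = 0 → z₁ = 0 ∧ z₂ = 0) :
    Nonempty (Cfsg.POmega F (Cfsg.quadFormMinus 1 F a b)
      ≃* Matrix.ProjectiveSpecialLinearGroup (Fin 2) K) := by
  classical
  obtain ⟨ι, θ, hfix, hsum, hprod, hbij⟩ := exists_quad_data hF hK a b hab
  letI : Algebra F K := ι.toAlgebra
  let σ := Forms.qPowHom hK
  have hσ : ∀ x, σ x = x ^ q := Forms.qPowHom_apply hK
  have hσσ : ∀ x, σ (σ x) = x := fun x => by rw [hσ, hσ, Forms.pow_q_pow_q hK]
  have hσι : ∀ x, σ (ι x) = ι x := fun x => by rw [hσ]; exact (hfix _).2 ⟨x, rfl⟩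
  have hσfix : ∀ x, σ x = x → ∃ y, ι y = x := fun x hx => (hfix x).1 (by rw [← hσ, hx])
  rw [← hσ θ] at hsum hprod
  have hsmul : ∀ (c : F) (x : K), c • x = ι c * x := fun c x => rfl
  let e0 : F × F →ₗ[F] K :=
    { toFun := fun z => ι z.1 + θ * ι z.2
      map_add' := fun z w => by simp only [Prod.fst_add, Prod.snd_add, map_add]; ring
      map_smul' := fun c z => by
        simp only [Prod.smul_fst, Prod.smul_snd, smul_eq_mul, map_mul, RingHom.id_apply, hsmul]; ring }
  let e : (F × F) ≃ₗ[F] K := LinearEquiv.ofBijective e0 hbij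
  have he : ∀ z : F × F, e z = ι z.1 + θ * ι z.2 := fun z => rfl
  let π : K →ₗ[F] F := (LinearMap.fst F F F).comp e.symm.toLinearMap
  have hπ : ∀ x, π (ι x) = x := fun x => by
    show (e.symm (ι x)).1 = x
    rw [show ι x = e (x, 0) by rw [he]; simp, e.symm_apply_apply]
  have hιπ : ∀ x, σ x = x → ι (π x) = x := fun x hx => by
    obtain ⟨y, rfl⟩ := hσfix x hx; rw [hπ]
  let emb : ((Fin 1 ⊕ Fin 1) ⊕ Fin 2 → F) →ₗ[F] Matrix (Fin 2) (Fin 2) K :=
    { toFun := fun v => !![ι (v (.inl (.inl 0))), e (v (.inr 0), v (.inr 1));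
        σ (e (v (.inr 0), v (.inr 1))), -ι (v (.inl (.inr 0)))]
      map_add' := fun u v => by
        ext i j; fin_cases i <;> fin_cases j <;> simp [he, map_add] <;> ring
      map_smul' := fun c v => by
        ext i j; fin_cases i <;> fin_cases j <;> simp [he, hsmul, map_add, map_mul, hσι] <;> ring }
  let proj : Matrix (Fin 2) (Fin 2) K →ₗ[F] ((Fin 1 ⊕ Fin 1) ⊕ Fin 2 → F) :=
    { toFun := fun X => Sum.elim (Sum.elim (fun _ => π (X 0 0)) (fun _ => -π (X 1 1)))
        ![(e.symm (X 0 1)).1, (e.symm (X 0 1)).2]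
      map_add' := fun X Y => by
        funext i; rcases i with (i | i) | i <;> (try fin_cases i) <;> simp [map_add] <;> ring
      map_smul' := fun c X => by
        funext i; rcases i with (i | i) | i <;> (try fin_cases i) <;> simp [map_smul] }
  have hpe : ∀ v, proj (emb v) = v := fun v => by
    funext i
    rcases i with (i | i) | i <;> fin_cases i <;> simp [emb, proj, hπ]
  have hherm : ∀ X : Matrix (Fin 2) (Fin 2) K, σ (X 0 0) = X 0 0 → σ (X 1 1) = X 1 1 → σ (X 0 1) = X 1 0 →
      emb (proj X) = X := by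
    intro X h00 h11 h01
    ext i j
    fin_cases i <;> fin_cases j <;> simp [emb, proj, hιπ _ h00, hιπ _ h11, h01]
  have hst : ∀ g v, emb (proj (actHerm (F := F) σ g (emb v))) = actHerm (F := F) σ g (emb v) := by
    intro g v
    apply hherm
    all_goals
      simp [actHerm_apply, emb, Matrix.mul_apply, Matrix.vecMul, dotProduct, Fin.sum_univ_two, map_add, map_mul, map_neg, hσσ, hσι,
        -Forms.qPowHom_apply, σ.map_add]
      try ring
  have hdet : ∀ v, Matrix.det (emb v) = -ι (Cfsg.quadFormMinus 1 F a b v) := by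
    intro v
    rw [Matrix.det_fin_two]
    simp [emb, Cfsg.quadFormMinus, he, hσι, -Forms.qPowHom_apply]
    linear_combination (-(ι (v (.inr 0)) * ι (v (.inr 1)))) * hsum - ι (v (.inr 1)) ^ 2 * hprod
  have hQ : ∀ g v, Cfsg.quadFormMinus 1 F a b (proj (actHerm (F := F) σ g (emb v)))
      = Cfsg.quadFormMinus 1 F a b v := by
    intro g v
    apply ι.injective
    apply neg_injective
    rw [← hdet, hst, ← hdet, actHerm_apply, Matrix.det_mul, Matrix.det_mul, Matrix.det_transpose,
      ← RingHom.mapMatrix_apply, ← RingHom.map_det, g.2, map_one, one_mul, mul_one]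
  let ψ := modelHom (Cfsg.quadFormMinus 1 F a b) (actHerm (F := F) σ) emb proj hpe hst hQ
  have hker : ψ.ker = Subgroup.center (Matrix.SpecialLinearGroup (Fin 2) K) := by
    ext g
    rw [show ψ = modelHom _ _ _ _ hpe hst hQ from rfl, mem_ker_modelHom]
    have hd : g.1 0 0 * g.1 1 1 - g.1 0 1 * g.1 1 0 = 1 := by rw [← Matrix.det_fin_two]; exact g.2
    constructor
    · intro h
      rw [mem_center_SL_two]
      have key : ∀ X : Matrix (Fin 2) (Fin 2) K, σ (X 0 0) = X 0 0 → σ (X 1 1) = X 1 1 →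
          σ (X 0 1) = X 1 0 → g.1 * (X * (g.1.map σ)ᵀ) = X := fun X h00 h11 h01 => by
        have := h (proj X)
        rwa [hherm X h00 h11 h01, actHerm_apply] at this
      have e1 := key !![1, 0; 0, 0] (by simp) (by simp) (by simp)
      have e2 := key !![0, 0; 0, 1] (by simp) (by simp) (by simp)
      have e3 := key !![0, 1; 1, 0] (by simp) (by simp) (by simp)
      have a1 := congrFun (congrFun e1 0) 0
      have a2 := congrFun (congrFun e1 1) 1
      have b1 := congrFun (congrFun e2 0) 0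
      have c1 := congrFun (congrFun e3 0) 1
      simp [Matrix.mul_apply, Matrix.vecMul, dotProduct, Fin.sum_univ_two, -Forms.qPowHom_apply] at a1 a2 b1 c1
      have h10 : g.1 1 0 = 0 := a2
      have h01 : g.1 0 1 = 0 := b1
      refine ⟨h01, h10, ?_⟩
      rw [h01, h10] at hd c1
      have h0 : σ (g.1 1 1) = g.1 1 1 := by
        have hne : g.1 0 0 ≠ 0 := fun h0 => by rw [h0] at hd; simp at hd
        apply mul_left_cancel₀ hne
        simp at c1 hd
        rw [c1, hd]
      have h00 : σ (g.1 0 0) = g.1 1 1 := by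
        have hne : g.1 0 0 ≠ 0 := fun h0 => by rw [h0] at hd; simp at hd
        apply mul_left_cancel₀ hne
        simp at hd
        rw [a1, hd]
      have := congrArg σ h00
      rw [hσσ, h0] at this
      exact this
    · intro hc v
      obtain ⟨r, hr2, hr⟩ := Matrix.SpecialLinearGroup.mem_center_iff.1 hc
      have hσr : σ r = r := by
        rw [Fintype.card_fin, sq, mul_self_eq_one_iff] at hr2
        rcases hr2 with rfl | rfl <;> simp [-Forms.qPowHom_apply]
      rw [actHerm_apply, ← hr]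
      rw [Fintype.card_fin, sq] at hr2
      ext i j
      fin_cases i <;> fin_cases j <;>
        simp [Matrix.mul_apply, Matrix.vecMul, dotProduct, Fin.sum_univ_two, hσr, -Forms.qPowHom_apply, Matrix.diagonal] <;>
        linear_combination (norm := ring_nf) (emb v _ _) * hr2
  have hK4 : 4 ≤ Fintype.card K := by
    have := Fintype.one_lt_card (α := F)
    rw [hK, ← hF]
    nlinarith
  have hperf : commutator (Matrix.SpecialLinearGroup (Fin 2) K) = ⊤ :=
    LinGroup.commutator_SL_fin_eq_top le_rfl fun _ => by rw [Nat.card_eq_fintype_card]; exact hK4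
  have hparity : Even (Fintype.card K) ↔ Even (Fintype.card F) := by
    rw [hK, hF, Nat.even_pow]; simp
  refine nonempty_POmega_mulEquiv (twoFree_of_commutator hperf) ψ hker.le ?_ ?_
  · rw [hker, natCard_center_SL_two]; split_ifs <;> norm_num
  · refine range_eq_omega (StdForms.minusQ F 1 a b) (StdForms.coe_minusQ F 1 a b) ?_ (by simp) ψ (Or.inl hperf) ?_
    · exact fun _ => StdForms.minusQ_nondegenerate hab 1
    rw [natCard_isometryGroup_minus (a := a) (b := b) hab 1, hker, natCard_center_SL_two, natCard_SL_two,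
      Nat.card_eq_fintype_card]
    simp only [hparity, Finset.prod_range_one]
    rw [hK, hF, show (q ^ 2) ^ 2 - 1 = (q ^ 2 + 1) * (q ^ 2 - 1) by rw [← Nat.sq_sub_sq, one_pow]]
    split_ifs <;> ring

end Cfsg.Agent.Lib.Classical.LowRank
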