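import Mathlib
import Cfsg.Agent.Lib.Classical.LowRank.Index
import Cfsg.Agent.Lib.Classical.LowRank.QuadExt
import Cfsg.Agent.Lib.Classical.LowRank.Hodge

/-!
`PΩ⁻_6(q) ≅ PSU_4(q)`.
-/

set_option autoImplicit false

namespace Cfsg.Agent.Lib.Classical.LowRank

open Matrix

variable {F K : Type*} [Field F] [Fintype F] [Field K] [Fintype K] {q : ℕ}

/-- a semilinear parametrisation of `K³` realising the minus form as a sum of three norms -/
theorem exists_norm_coords (hF : Fintype.card F = q) (hK : Fintype.card K = q ^ 2) (a b : F)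
    (hab : ∀ z₁ z₂ : F, z₁ ^ 2 + a * z₁ * z₂ + b * z₂ ^ 2 = 0 → z₁ = 0 ∧ z₂ = 0) :
    ∃ (ι : F →+* K) (T : ((Fin 2 ⊕ Fin 2) ⊕ Fin 2 → F) → (Fin 3 → K)),
      (∀ x : K, x ^ q = x ↔ ∃ y, ι y = x) ∧ (∀ u v, T (u + v) = T u + T v) ∧
      (∀ (c : F) v, T (c • v) = ι c • T v) ∧ Function.Bijective T ∧
      (∀ v, ∑ i, T v i * T v i ^ q = ι (Cfsg.quadFormMinus 2 F a b v)) ∧
      ∃ θ : K, θ ^ q ≠ θ := by
  classical
  obtain ⟨ι, θ, hfix, hsum, hprod, hbij⟩ := exists_quad_data hF hK a b hab
  obtain ⟨e, he⟩ := exists_split hK 0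
  have hσι : ∀ x, ι x ^ q = ι x := fun x => (hfix _).2 ⟨x, rfl⟩
  have hqq := Forms.pow_q_pow_q hK
  have hadd : ∀ x y : K, (x + y) ^ q = x ^ q + y ^ q := qpow_add hK
  have hθ : θ ^ q ≠ θ := by
    intro h
    obtain ⟨y, hy⟩ := (hfix θ).1 h
    have := hbij.1 (a₁ := (y, 0)) (a₂ := (0, 1)) (by simp [hy])
    exact zero_ne_one (congrArg Prod.snd this)
  let D : K := θ - θ ^ q
  have hD : D ≠ 0 := sub_ne_zero.2 (Ne.symm hθ)
  let u : K := θ / D
  let u' : K := -1 / D
  have hDq : D ^ q = -D := by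
    show (θ - θ ^ q) ^ q = _
    rw [← Forms.qPowHom_apply hK, map_sub, Forms.qPowHom_apply, Forms.qPowHom_apply, hqq]
    ring
  have huq : u ^ q = -(θ ^ q) / D := by
    show (θ / D) ^ q = _
    rw [div_pow, hDq, div_neg, neg_div]
  have hu'q : u' ^ q = 1 / D := by
    show (-1 / D) ^ q = _
    rw [div_pow, hDq, ← Forms.qPowHom_apply hK, map_neg, map_one, neg_div_neg_eq]
  let E : ((Fin 2 ⊕ Fin 2) ⊕ Fin 2 → F) → (Fin 2 → K) := fun v =>
    e (ι (v (.inl (.inl 0))) + θ * ι (v (.inl (.inl 1))),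
      ι (v (.inl (.inr 0))) * u + ι (v (.inl (.inr 1))) * u', 0)
  let T : ((Fin 2 ⊕ Fin 2) ⊕ Fin 2 → F) → (Fin 3 → K) := fun v =>
    ![E v 0, E v 1, ι (v (.inr 0)) + θ * ι (v (.inr 1))]
  have hEadd : ∀ v w, E (v + w) = E v + E w := fun v w => by
    simp only [E]
    rw [← map_add]
    congr 1
    refine Prod.ext ?_ (Prod.ext ?_ (Subsingleton.elim _ _)) <;>
      simp only [Prod.fst_add, Prod.snd_add, Pi.add_apply, map_add] <;> ring
  have hEsmul : ∀ (c : F) v, E (c • v) = ι c • E v := fun c v => by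
    simp only [E]
    rw [← map_smul]
    congr 1
    refine Prod.ext ?_ (Prod.ext ?_ (Subsingleton.elim _ _)) <;>
      simp only [Prod.smul_fst, Prod.smul_snd, Pi.smul_apply, smul_eq_mul, map_mul] <;> ring
  have hadd' : ∀ v w, T (v + w) = T v + T w := fun v w => by
    funext i
    fin_cases i <;> simp [T, hEadd, map_add]
    ring
  have hsmul' : ∀ (c : F) v, T (c • v) = ι c • T v := fun c v => by
    funext i
    fin_cases i <;> simp [T, hEsmul, map_mul]
    ring
  have hquad : ∀ v, ∑ i, T v i * T v i ^ q = ι (Cfsg.quadFormMinus 2 F a b v) := by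
    intro v
    have hE : E v 0 * E v 0 ^ q + E v 1 * E v 1 ^ q
        = ι (v (.inl (.inl 0)) * v (.inl (.inr 0)) + v (.inl (.inl 1)) * v (.inl (.inr 1))) := by
      have h := he (ι (v (.inl (.inl 0))) + θ * ι (v (.inl (.inl 1))),
        ι (v (.inl (.inr 0))) * u + ι (v (.inl (.inr 1))) * u', 0)
        (ι (v (.inl (.inl 0))) + θ * ι (v (.inl (.inl 1))),
        ι (v (.inl (.inr 0))) * u + ι (v (.inl (.inr 1))) * u', 0)
      have h' : E v 0 * E v 0 ^ q + E v 1 * E v 1 ^ q = Cfsg.hermForm (0 + 2) K q (E v) (E v) :=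
        (Fin.sum_univ_two (fun i : Fin 2 => E v i * E v i ^ q)).symm
      simp only [uExt, Forms.qPowHom_apply, show ∀ x y : Fin 0 → K, Cfsg.hermForm 0 K q x y = 0 from
        fun _ _ => Finset.sum_of_isEmpty _, add_zero] at h
      rw [h', show Cfsg.hermForm (0 + 2) K q (E v) (E v) = _ from h, hadd, hadd, mul_pow, mul_pow, mul_pow, huq,
        hu'q, hσι, hσι, hσι, hσι, map_add, map_mul, map_mul]
      simp only [u, u']
      field_simp
      simp only [D]
      ring
    simp only [T, Fin.sum_univ_three, Matrix.cons_val_zero, Matrix.cons_val_one, Matrix.cons_val_two,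
      Matrix.head_cons, Matrix.tail_cons]
    rw [hE, Cfsg.quadFormMinus, Fin.sum_univ_two, hadd, mul_pow, hσι, hσι]
    simp only [map_add, map_mul, map_pow]
    linear_combination (ι (v (.inr 0)) * ι (v (.inr 1))) * hsum + ι (v (.inr 1)) ^ 2 * hprod
  refine ⟨ι, T, hfix, hadd', hsmul', ?_, hquad, θ, hθ⟩
  rw [Fintype.bijective_iff_injective_and_card]
  refine ⟨fun v w hvw => ?_, ?_⟩
  · have h2 := congrFun hvw 2
    simp [T] at h2
    have hc := hbij.1 (a₁ := (v (.inr 0), v (.inr 1))) (a₂ := (w (.inr 0), w (.inr 1))) h2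
    simp only [Prod.mk.injEq] at hc
    have hEE : E v = E w := by
      have h0 := congrFun hvw 0
      have h1 := congrFun hvw 1
      simp [T] at h0 h1
      funext i; fin_cases i <;> assumption
    have h3 := e.injective hEE
    simp only [Prod.mk.injEq, and_true] at h3
    obtain ⟨hx, hy⟩ := h3
    have hxc := hbij.1 (a₁ := (v (.inl (.inl 0)), v (.inl (.inl 1))))
      (a₂ := (w (.inl (.inl 0)), w (.inl (.inl 1)))) hx
    simp only [Prod.mk.injEq] at hxc
    have hy' : ι (-v (.inl (.inr 1))) + θ * ι (v (.inl (.inr 0)))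
        = ι (-w (.inl (.inr 1))) + θ * ι (w (.inl (.inr 0))) := by
      simp only [u, u'] at hy
      field_simp at hy
      rw [map_neg, map_neg]
      linear_combination hy
    have hyc := hbij.1 (a₁ := (-v (.inl (.inr 1)), v (.inl (.inr 0))))
      (a₂ := (-w (.inl (.inr 1)), w (.inl (.inr 0)))) hy'
    simp only [Prod.mk.injEq, neg_inj] at hyc
    funext k
    rcases k with (k | k) | k <;> fin_cases k
    exacts [hxc.1, hxc.2, hyc.2, hyc.1, hc.1, hc.2]
  · simp [hF, hK]
    ring

theorem nonempty_POmega_minus_six (hF : Fintype.card F = q) (hK : Fintype.card K = q ^ 2) (a b : F)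
    (hab : ∀ z₁ z₂ : F, z₁ ^ 2 + a * z₁ * z₂ + b * z₂ ^ 2 = 0 → z₁ = 0 ∧ z₂ = 0) :
    Nonempty (Cfsg.POmega F (Cfsg.quadFormMinus 2 F a b) ≃* Cfsg.PSU 4 K q) := by
  classical
  obtain ⟨ι, T, hfix, hTadd, hTsmul, hTbij, hTquad, -⟩ := exists_norm_coords hF hK a b hab
  have hq := Forms.two_le_of_card_sq hK
  letI : Algebra F K := ι.toAlgebra
  have hσι : ∀ x, ι x ^ q = ι x := fun x => (hfix _).2 ⟨x, rfl⟩
  have hadd : ∀ x y : K, (x + y) ^ q = x ^ q + y ^ q := qpow_add hK
  let T0 : ((Fin 2 ⊕ Fin 2) ⊕ Fin 2 → F) →ₗ[F] (Fin 3 → K) :=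
    { toFun := T
      map_add' := hTadd
      map_smul' := fun c v => by rw [hTsmul]; rfl }
  let Te := LinearEquiv.ofBijective T0 hTbij
  let emb : ((Fin 2 ⊕ Fin 2) ⊕ Fin 2 → F) →ₗ[F] Matrix (Fin 4) (Fin 4) K :=
    { toFun := fun v => altEmb K (Sum.elim (T v) (fun i => T v i ^ q))
      map_add' := fun u v => by
        rw [← map_add]; congr 1
        funext i
        rcases i with i | i <;> simp [hTadd, hadd]
      map_smul' := fun c v => by
        rw [RingHom.id_apply, show c • altEmb K (Sum.elim (T v) (fun i => T v i ^ q))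
          = ι c • altEmb K (Sum.elim (T v) (fun i => T v i ^ q)) from rfl, ← map_smul]
        congr 1
        funext i
        rcases i with i | i <;> simp [hTsmul, mul_pow, hσι] }
  let proj : Matrix (Fin 4) (Fin 4) K →ₗ[F] ((Fin 2 ⊕ Fin 2) ⊕ Fin 2 → F) :=
    Te.symm.toLinearMap.comp (
      { toFun := fun X i => altProj K X (.inl i)
        map_add' := fun X Y => by funext i; rw [map_add]; rfl
        map_smul' := fun c X => by
          funext i
          rw [show c • X = ι c • X from rfl, map_smul]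
          show ι c * _ = ι c * _
          rfl } : Matrix (Fin 4) (Fin 4) K →ₗ[F] (Fin 3 → K))
  have hTproj : ∀ X, T (proj X) = fun i => altProj K X (.inl i) := fun X => Te.apply_symm_apply _
  have hpe : ∀ v, proj (emb v) = v := fun v => by
    apply hTbij.1
    rw [hTproj]
    funext i
    show altProj K (altEmb K _) (.inl i) = _
    rw [altProj_altEmb]; rfl
  have hkey : ∀ g v, (fun w => Sum.elim (T (proj w)) (fun i => T (proj w) i ^ q))
      (altAct (suMat K q) g (emb v)) = altProj K (altAct (suMat K q) g (emb v)) := by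
    intro g v
    have ht := twisted_SU hK g (Sum.elim (T v) (fun i => T v i ^ q)) (fun i => rfl)
    funext i
    rcases i with i | i
    · show T (proj _) i = _; rw [hTproj]
    · show T (proj _) i ^ q = _; rw [hTproj]; exact (ht i).symm
  let act : Cfsg.SU 4 K q →* Module.End F (Matrix (Fin 4) (Fin 4) K) :=
    { toFun := fun g => (altAct (suMat K q) g).restrictScalars F
      map_one' := by rw [map_one]; rfl
      map_mul' := fun g h => by rw [map_mul]; rfl }
  have hst : ∀ g v, emb (proj (act g (emb v))) = act g (emb v) := by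
    intro g v
    show altEmb K (Sum.elim (T (proj (altAct (suMat K q) g (emb v))))
      (fun i => T (proj (altAct (suMat K q) g (emb v))) i ^ q)) = altAct (suMat K q) g (emb v)
    rw [show Sum.elim (T (proj (altAct (suMat K q) g (emb v))))
      (fun i => T (proj (altAct (suMat K q) g (emb v))) i ^ q) = _ from hkey g v]
    exact altEmb_stable _ _
  have hQ : ∀ g v, Cfsg.quadFormMinus 2 F a b (proj (act g (emb v))) = Cfsg.quadFormMinus 2 F a b v := by
    intro g v
    apply ι.injective
    rw [← hTquad, ← hTquad]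
    have h := pfaffian_congr (suMat K q g) (Sum.elim (T v) (fun i => T v i ^ q))
    rw [det_suMat, one_mul, ← altAct_apply] at h
    rw [show altProj K (altAct (suMat K q) g (altEmb K (Sum.elim (T v) fun i => T v i ^ q)))
      = _ from (hkey g v).symm] at h
    exact h
  let ψ := modelHom (Cfsg.quadFormMinus 2 F a b) act emb proj hpe hst hQ
  have hperf : commutator (Cfsg.SU 4 K q) = ⊤ := commutator_SU hK 2 (by norm_num) (by norm_num)
  have hsimple : IsSimpleGroup (Cfsg.PSU 4 K q) := isSimpleGroup_PSU hK 2 (by norm_num) (by norm_num)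
  -- a diagonal element acting non-trivially
  obtain ⟨d, hd, hd1⟩ : ∃ d : K, d ^ (q + 1) = 1 ∧ d ≠ 1 := by
    have hc := natCard_normOne hK
    rw [Nat.card_eq_fintype_card] at hc
    obtain ⟨x, hx⟩ := Fintype.exists_ne_of_one_lt_card (α := {x : K // x ^ (q + 1) = 1}) (by omega)
      ⟨1, one_pow _⟩
    exact ⟨x.1, x.2, fun e => hx (Subtype.ext e)⟩
  have hd0 : d ≠ 0 := by rintro rfl; rw [zero_pow (by omega)] at hd; exact zero_ne_one hd
  let dv : Fin 4 → K := ![d, d⁻¹, 1, 1]
  let gd : Cfsg.SU 4 K q := suMk (Matrix.diagonal dv)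
    (by simp [Matrix.det_diagonal, Fin.prod_univ_four, dv, hd0])
    (diagonal_mem_GU hK dv fun i => by fin_cases i <;> simp [dv, hd, inv_pow])
  have hgd : altAct (suMat K q) gd (altEmb K (Sum.elim ![0, 1, 0] ![0, 1, 0]))
      ≠ altEmb K (Sum.elim ![0, 1, 0] ![0, 1, 0]) := fun h => by
    have h' := congrFun (congrFun h 0) 2
    rw [altAct_apply, show suMat K q gd = Matrix.diagonal dv from rfl, Matrix.diagonal_transpose,
      Matrix.diagonal_mul, Matrix.mul_diagonal] at h'
    simp [altEmb, dv] at h'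
    exact hd1 h'
  obtain ⟨v0, hv0⟩ := hTbij.2 ![0, 1, 0]
  have hv0' : emb v0 = altEmb K (Sum.elim ![0, 1, 0] ![0, 1, 0]) := by
    show altEmb K _ = _
    rw [hv0]
    congr 1
    funext i
    rcases i with i | i
    · rfl
    · fin_cases i <;> simp [zero_pow (show q ≠ 0 by omega)]
  have hker : ψ.ker ≤ Subgroup.center _ := ker_le_center_of_simple hsimple hperf ψ ⟨gd, fun h => hgd (by
    rw [← hv0']; exact mem_ker_modelHom.1 (MonoidHom.mem_ker.2 h) v0)⟩
  have hker2 : (repAlt (suMat K q) det_suMat).ker ≤ Subgroup.center _ :=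
    ker_le_center_of_simple hsimple hperf _ ⟨gd, fun h => hgd (mem_ker_modelHom.1 (MonoidHom.mem_ker.2 h) _)⟩
  have hscal : ∀ s ∈ Subgroup.center (Cfsg.SU 4 K q), ∃ r, suMat K q s = Matrix.scalar (Fin 4) r :=
    fun s hs => ⟨_, center_SU_scalar hK s hs 0⟩
  have hkereq : ψ.ker = (repAlt (suMat K q) det_suMat).ker := by
    ext s
    constructor
    · intro hs
      obtain ⟨r, hr⟩ := hscal s (hker hs)
      rw [scalar_mem_ker_repAlt _ _ hr]
      have h := mem_ker_modelHom.1 hs v0
      rw [show act s (emb v0) = altAct (suMat K q) s (emb v0) from rfl, altAct_scalar _ hr, hv0'] at h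
      simpa [altEmb] using congrFun (congrFun h 0) 2
    · intro hs
      obtain ⟨r, hr⟩ := hscal s (hker2 hs)
      rw [scalar_mem_ker_repAlt _ _ hr] at hs
      refine mem_ker_modelHom.2 fun v => ?_
      show altAct (suMat K q) s (emb v) = emb v
      rw [altAct_scalar _ hr, hs, one_smul]
  have hparity : Even (Fintype.card K) ↔ Even (Fintype.card F) := by
    rw [hK, hF, Nat.even_pow]; simp
  have hcard : Nat.card ψ.ker = if Even (Fintype.card F) then 1 else 2 := by
    rw [hkereq, natCard_ker_repAlt (S := ↥(Cfsg.SU 4 K q)) (suMat K q) det_suMat (fun x y h => Subtype.ext (Subtype.ext h)) (fun s hs => hscal s (hker2 hs))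
      (fun r hr => ?_)]
    · simp only [hparity]
    · have hrq : r ^ (q + 1) = 1 := by
        rcases mul_self_eq_one_iff.1 (by rwa [sq] at hr) with rfl | rfl
        · exact one_pow _
        · rw [pow_succ, ← Forms.qPowHom_apply hK, map_neg, map_one]; ring
      refine ⟨suMk (Matrix.diagonal fun _ => r) ?_ (diagonal_mem_GU hK _ fun _ => hrq), rfl⟩
      simp
      linear_combination (r ^ 2 + 1) * hr
  refine nonempty_POmega_mulEquiv (twoFree_of_commutator hperf) ψ hker ?_ ?_
  · rw [hcard]; split_ifs <;> norm_num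
  · refine range_eq_omega (StdForms.minusQ F 2 a b) (StdForms.coe_minusQ F 2 a b)
      (fun _ => StdForms.minusQ_nondegenerate hab 2) (by simp) ψ (Or.inl hperf) ?_
    have h1 := succ_mul_natCard_SU hK 4 (by norm_num)
    rw [natCard_GU hK] at h1
    rw [natCard_isometryGroup_minus hab 2, hcard, Nat.card_eq_fintype_card, hF]
    simp only [Finset.prod_range_succ, Finset.prod_range_zero, show Even 2 from by decide,
      show ¬ Even 1 from by decide, show ¬ Even 3 from by decide, show Even 0 from by decide, if_true,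
      if_false, one_mul, zero_add, pow_one] at h1 ⊢
    refine Nat.eq_of_mul_eq_mul_left (show 0 < q + 1 by omega) ?_
    rw [Nat.mul_left_comm (q + 1) (if Even q then 2 else 4), h1]
    split_ifs <;> ring

end Cfsg.Agent.Lib.Classical.LowRank
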