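import Mathlib
import Cfsg.Agent.Lib.Classical.LowRank.Index
import Cfsg.Agent.Lib.Classical.LowRank.Alt
import Cfsg.Agent.Lib.Classical.Symplectic
import Cfsg.Agent.Lib.LinGroup.SympSimple

/-!
`PΩ_5(q) ≅ PSp_4(q)`: the orthogonal space of the symplectic vector in the alternating square.
-/

set_option autoImplicit false

namespace Cfsg.Agent.Lib.Classical.LowRank

open Matrix

variable (F : Type*) [Field F]

/-- `Sp_4` in a `Fin 4` basis -/
noncomputable def spMat : Matrix.symplecticGroup (Fin 2) F →* Matrix (Fin 4) (Fin 4) F where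
  toFun g := Matrix.reindex finSumFinEquiv finSumFinEquiv (g : Matrix (Fin 2 ⊕ Fin 2) (Fin 2 ⊕ Fin 2) F)
  map_one' := by simp
  map_mul' g h := by simp [Matrix.reindex_apply, Matrix.submatrix_mul_equiv]

/-- the Plücker vectors orthogonal to the symplectic one -/
def symEmb : (Unit ⊕ (Fin 2 ⊕ Fin 2) → F) →ₗ[F] (Fin 3 ⊕ Fin 3 → F) where
  toFun v := Sum.elim ![v (.inr (.inl 0)), v (.inl ()), v (.inr (.inl 1))]
    ![v (.inr (.inr 0)), v (.inl ()), v (.inr (.inr 1))]
  map_add' u v := by funext i; rcases i with i | i <;> fin_cases i <;> simp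
  map_smul' c v := by funext i; rcases i with i | i <;> fin_cases i <;> simp

/-- left inverse of `symEmb` -/
def symProj : (Fin 3 ⊕ Fin 3 → F) →ₗ[F] (Unit ⊕ (Fin 2 ⊕ Fin 2) → F) where
  toFun w := Sum.elim (fun _ => w (.inl 1)) (Sum.elim ![w (.inl 0), w (.inl 2)] ![w (.inr 0), w (.inr 2)])
  map_add' u v := by funext i; rcases i with i | i | i <;> (try fin_cases i) <;> simp
  map_smul' c v := by funext i; rcases i with i | i | i <;> (try fin_cases i) <;> simp

/-- the Plücker vector of `J` -/
def sympPl : Fin 3 ⊕ Fin 3 → F := Sum.elim ![0, -1, 0] ![0, 1, 0]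

variable {F}

theorem symProj_symEmb (v : Unit ⊕ (Fin 2 ⊕ Fin 2) → F) : symProj F (symEmb F v) = v := by
  funext i; rcases i with i | i | i <;> (try fin_cases i) <;> simp [symEmb, symProj]

theorem quad_symEmb (v : Unit ⊕ (Fin 2 ⊕ Fin 2) → F) :
    Cfsg.quadFormPlus 3 F (symEmb F v) = Cfsg.quadFormOdd 2 F v := by
  simp [symEmb, Cfsg.quadFormPlus, Cfsg.quadFormOdd, Fin.sum_univ_three, Fin.sum_univ_two]
  ring

theorem reindex_J : Matrix.reindex finSumFinEquiv finSumFinEquiv (Matrix.J (Fin 2) F) = altEmb F (sympPl F) := by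
  ext i j
  fin_cases i <;> fin_cases j <;>
    simp [Matrix.J, altEmb, sympPl, finSumFinEquiv, Fin.addCases, Matrix.fromBlocks]

theorem spMat_sympPl (g : Matrix.symplecticGroup (Fin 2) F) :
    spMat F g * (altEmb F (sympPl F) * (spMat F g)ᵀ) = altEmb F (sympPl F) := by
  rw [← reindex_J]
  show Matrix.reindex _ _ _ * (Matrix.reindex _ _ _ * (Matrix.reindex _ _ _)ᵀ) = _
  rw [Matrix.reindex_apply, Matrix.reindex_apply, Matrix.transpose_submatrix, Matrix.submatrix_mul_equiv,
    Matrix.submatrix_mul_equiv, ← Matrix.mul_assoc, SymplecticGroup.mem_iff.1 g.2]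

variable [Fintype F]

theorem det_spMat (h2 : (2 : F) ≠ 0) (g : Matrix.symplecticGroup (Fin 2) F) : (spMat F g).det = 1 := by
  have hperf := LinGroup.commutator_symplectic_eq_top (F := F) (m := 2) (Or.inr (Or.inl ⟨rfl, by
    obtain ⟨k, hk⟩ := Nat.not_even_iff_odd.1 (fun he => h2 (two_eq_zero_iff_even_card.2 he))
    have := Fintype.one_lt_card (α := F)
    omega⟩))
  let d : Matrix.symplecticGroup (Fin 2) F →* Fˣ :=
    (Units.map (Matrix.detMonoidHom : Matrix (Fin 4) (Fin 4) F →* F)).comp (spMat F).toHomUnits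
  have h1 : d g = 1 := by
    have : g ∈ d.ker := (Abelianization.commutator_subset_ker d) (hperf ▸ Subgroup.mem_top g)
    exact this
  exact congrArg Units.val h1

theorem symEmb_stable (h2 : (2 : F) ≠ 0) (g : Matrix.symplecticGroup (Fin 2) F)
    (v : Unit ⊕ (Fin 2 ⊕ Fin 2) → F) :
    symEmb F (symProj F (altProj F (altAct (spMat F) g (altEmb F (symEmb F v)))))
      = altProj F (altAct (spMat F) g (altEmb F (symEmb F v))) := by
  set w := altProj F (altAct (spMat F) g (altEmb F (symEmb F v))) with hw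
  have h1 : Cfsg.quadFormPlus 3 F w = Cfsg.quadFormPlus 3 F (symEmb F v) := by
    rw [hw, altAct_apply, pfaffian_congr, det_spMat h2, one_mul]
  have h2' : Cfsg.quadFormPlus 3 F (w + sympPl F) = Cfsg.quadFormPlus 3 F (symEmb F v + sympPl F) := by
    have e : altProj F (altAct (spMat F) g (altEmb F (sympPl F))) = sympPl F := by
      rw [altAct_apply, spMat_sympPl, altProj_altEmb]
    rw [hw]
    conv_lhs => rw [← e]
    rw [← map_add, ← map_add, ← map_add, altAct_apply, pfaffian_congr, det_spMat h2, one_mul]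
  have key : w (.inl 1) = w (.inr 1) := by
    simp only [Cfsg.quadFormPlus, Fin.sum_univ_three, Pi.add_apply] at h1 h2'
    simp [sympPl, symEmb] at h1 h2'
    linear_combination h2' - h1
  funext i
  rcases i with i | i <;> fin_cases i <;> simp [symEmb, symProj, key]

theorem nonempty_POmega_five (hodd : Odd (Fintype.card F)) :
    Nonempty (Cfsg.POmega F (Cfsg.quadFormOdd 2 F) ≃* Cfsg.PSp 2 F) := by
  classical
  have h2 := two_ne_zero_of_odd_card hodd
  have he : ¬ Even (Fintype.card F) := Nat.not_even_iff_odd.2 hodd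
  have h3 : 3 ≤ Fintype.card F := by
    obtain ⟨k, hk⟩ := hodd
    have := Fintype.one_lt_card (α := F)
    omega
  have hperf := LinGroup.commutator_symplectic_eq_top (F := F) (m := 2) (Or.inr (Or.inl ⟨rfl, h3⟩))
  let ψ : Matrix.symplecticGroup (Fin 2) F →* Cfsg.isometryGroup F (Cfsg.quadFormOdd 2 F) :=
    modelHom _ (altAct (spMat F)) ((altEmb F).comp (symEmb F)) ((symProj F).comp (altProj F))
      (fun v => by
        show symProj F (altProj F (altEmb F (symEmb F v))) = v
        rw [altProj_altEmb, symProj_symEmb])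
      (fun g v => by
        show altEmb F (symEmb F (symProj F (altProj F (altAct (spMat F) g (altEmb F (symEmb F v))))))
          = altAct (spMat F) g (altEmb F (symEmb F v))
        rw [symEmb_stable h2, altAct_apply]
        exact altEmb_stable _ _)
      (fun g v => by
        show Cfsg.quadFormOdd 2 F (symProj F (altProj F (altAct (spMat F) g (altEmb F (symEmb F v))))) = _
        rw [← quad_symEmb, symEmb_stable h2, altAct_apply, pfaffian_congr, det_spMat h2, one_mul, quad_symEmb])
  have hne : ∃ s, ψ s ≠ 1 := by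
    refine ⟨⟨Matrix.J (Fin 2) F, SymplecticGroup.J_mem (Fin 2) F⟩, fun h => ?_⟩
    have h1 := mem_ker_modelHom.1 (MonoidHom.mem_ker.2 h) (Sum.elim 0 (Sum.elim ![1, 0] 0))
    have h2' := congrFun (congrFun h1 0) 1
    simp [altAct_apply, spMat, altEmb, symEmb, Matrix.mul_apply, Fin.sum_univ_four, Matrix.vecMul, dotProduct,
      Matrix.J, finSumFinEquiv, Fin.addCases, Matrix.fromBlocks] at h2'
  have hker : ψ.ker ≤ Subgroup.center _ :=
    ker_le_center_of_simple (LinGroup.isSimpleGroup_PSp le_rfl fun _ => h3) hperf ψ hne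
  have hker' : ψ.ker = Subgroup.center (Matrix.symplecticGroup (Fin 2) F) := by
    refine le_antisymm hker fun g hg => mem_ker_modelHom.2 fun v => ?_
    rcases (center_symplecticGroup 2 g).1 hg with e | e
    · have hr : spMat F g = Matrix.scalar (Fin 4) (1 : F) := by
        show Matrix.reindex _ _ _ = _
        rw [e]; simp
      rw [altAct_scalar _ hr, one_pow, one_smul]
    · have hr : spMat F g = Matrix.scalar (Fin 4) (-1 : F) := by
        show Matrix.reindex _ _ _ = _
        rw [e]
        ext i j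
        simp [Matrix.one_apply, Matrix.diagonal]
        split_ifs <;> simp
      rw [altAct_scalar _ hr, neg_one_sq, one_smul]
  have hgcd : Nat.gcd 2 (Fintype.card F - 1) = 2 := by
    obtain ⟨k, hk⟩ := hodd
    exact Nat.gcd_eq_left ⟨k, by omega⟩
  refine nonempty_POmega_mulEquiv (twoFree_of_commutator hperf) ψ hker ?_ ?_
  · rw [hker', natCard_center_symplecticGroup 2 (by norm_num), hgcd]
  · refine range_eq_omega (StdForms.oddQ F 2) (StdForms.coe_oddQ F 2)
      (fun _ => StdForms.oddQ_nondegenerate h2 2) (by simp) _ (Or.inl hperf) ?_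
    rw [natCard_isometryGroup_odd h2, hker', natCard_center_symplecticGroup 2 (by norm_num), hgcd, if_neg he,
      natCard_symplecticGroup]
    simp only [Finset.prod_range_succ, Finset.prod_range_zero]
    ring

end Cfsg.Agent.Lib.Classical.LowRank
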