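import Mathlib
import Cfsg.Agent.Lib.Classical.LowRank.Index
import Cfsg.Agent.Lib.Classical.LowRank.Alt
import Cfsg.Agent.Lib.LinGroup.Simple

/-!
`PΩ⁺_6(q) ≅ PSL_4(q)`.
-/

set_option autoImplicit false

namespace Cfsg.Agent.Lib.Classical.LowRank

open Matrix

variable {F : Type*} [Field F] [Fintype F]

theorem natCard_SL_four :
    Nat.card (Matrix.SpecialLinearGroup (Fin 4) F) = Fintype.card F ^ 6 *
      ((Fintype.card F ^ 2 - 1) * (Fintype.card F ^ 3 - 1) * (Fintype.card F ^ 4 - 1)) := by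
  have h := LinGroup.card_SL_mul (F := F) 4 (by norm_num)
  have hq := Fintype.one_lt_card (α := F)
  rw [Fin.prod_univ_four] at h
  simp only [Fin.val_zero, Fin.val_one, Fin.val_two, show ((3 : Fin 4) : ℕ) = 3 from rfl, pow_zero, pow_one] at h
  refine Nat.eq_of_mul_eq_mul_left (show 0 < Fintype.card F - 1 by omega) ?_
  rw [h]
  generalize Fintype.card F = q at *
  have e1 : q ^ 4 - q = q * (q ^ 3 - 1) := by rw [Nat.mul_sub, mul_one]; ring_nf
  have e2 : q ^ 4 - q ^ 2 = q ^ 2 * (q ^ 2 - 1) := by rw [Nat.mul_sub, mul_one]; ring_nf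
  have e3 : q ^ 4 - q ^ 3 = q ^ 3 * (q - 1) := by rw [Nat.mul_sub, mul_one]; ring_nf
  rw [e1, e2, e3]
  ring

theorem nonempty_POmega_plus_six :
    Nonempty (Cfsg.POmega F (Cfsg.quadFormPlus 3 F) ≃* Matrix.ProjectiveSpecialLinearGroup (Fin 4) F) := by
  classical
  let φ : Matrix.SpecialLinearGroup (Fin 4) F →* Matrix (Fin 4) (Fin 4) F :=
    { toFun := fun g => g.1, map_one' := rfl, map_mul' := fun _ _ => rfl }
  have hdet : ∀ s, (φ s).det = 1 := fun s => s.2
  have hperf : commutator (Matrix.SpecialLinearGroup (Fin 4) F) = ⊤ :=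
    LinGroup.commutator_SL_fin_eq_top (by norm_num) (fun h => absurd h (by norm_num))
  have hne : ∃ s, repAlt φ hdet s ≠ 1 := by
    refine ⟨Matrix.SpecialLinearGroup.transvection (show (0 : Fin 4) ≠ 1 by decide) (1 : F), fun h => ?_⟩
    have h1 := mem_ker_modelHom.1 (MonoidHom.mem_ker.2 h) (Sum.elim 0 ![0, 0, 1])
    rw [altAct_apply] at h1
    have h2 := congrFun (congrFun h1 0) 2
    simp [φ, LinGroup.coe_transvection, Matrix.transvection, altEmb, Matrix.mul_apply, Fin.sum_univ_four,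
      Matrix.vecMul, dotProduct, Matrix.single] at h2
  have hker : (repAlt φ hdet).ker ≤ Subgroup.center _ :=
    ker_le_center_of_simple (LinGroup.isSimpleGroup_PSL_fin (by norm_num) (fun h => absurd h (by norm_num)))
      hperf _ hne
  have hcard : Nat.card (repAlt φ hdet).ker = if Even (Fintype.card F) then 1 else 2 := by
    refine natCard_ker_repAlt φ hdet (fun a b h => Subtype.ext h) (fun s hs => ?_) fun r hr => ?_
    · obtain ⟨r, -, hr⟩ := Matrix.SpecialLinearGroup.mem_center_iff.1 (hker hs)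
      exact ⟨r, hr.symm⟩
    · refine ⟨⟨Matrix.scalar (Fin 4) r, ?_⟩, rfl⟩
      simp [Matrix.scalar_apply]
      linear_combination (r ^ 2 + 1) * hr
  refine nonempty_POmega_mulEquiv (twoFree_of_commutator hperf) (repAlt φ hdet) hker ?_ ?_
  · rw [hcard]; split_ifs <;> norm_num
  · refine range_eq_omega (StdForms.plusQ F 3) (StdForms.coe_plusQ F 3)
      (fun _ => StdForms.plusQ_nondegenerate 3) (by simp) _ (Or.inl hperf) ?_
    rw [natCard_isometryGroup_plus, hcard, natCard_SL_four, Nat.card_eq_fintype_card]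
    simp only [Finset.prod_range_succ, Finset.prod_range_zero]
    split_ifs <;> ring

end Cfsg.Agent.Lib.Classical.LowRank
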