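import Mathlib
import Cfsg.Agent.Lib.Classical.LowRank.Index
import Cfsg.Agent.Lib.Classical.UnitaryTwo
import Cfsg.Agent.Lib.LinGroup.Simple

/-!
`PΩ_3(q) ≅ PSL_2(q)`, `PΩ⁺_4(q) ≅ PSL_2(q) × PSL_2(q)`, `PΩ⁻_4(q) ≅ PSL_2(q²)`.
-/

set_option autoImplicit false

namespace Cfsg.Agent.Lib.Classical.LowRank

open Matrix

variable (F : Type*) [Field F]

/-- trace-zero matrices -/
def embThree : (Unit ⊕ (Fin 1 ⊕ Fin 1) → F) →ₗ[F] Matrix (Fin 2) (Fin 2) F where
  toFun v := !![v (.inl ()), v (.inr (.inl 0)); v (.inr (.inr 0)), -v (.inl ())]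
  map_add' u v := by ext i j; fin_cases i <;> fin_cases j <;> simp <;> ring
  map_smul' c v := by ext i j; fin_cases i <;> fin_cases j <;> simp

/-- coordinates of trace-zero matrices -/
def projThree : Matrix (Fin 2) (Fin 2) F →ₗ[F] (Unit ⊕ (Fin 1 ⊕ Fin 1) → F) where
  toFun X := Sum.elim (fun _ => X 0 0) (Sum.elim (fun _ => X 0 1) (fun _ => X 1 0))
  map_add' X Y := by funext i; rcases i with i | i | i <;> rfl
  map_smul' c X := by funext i; rcases i with i | i | i <;> rfl

/-- `X ↦ g X g⁻¹` -/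
noncomputable def actThree : Matrix.SpecialLinearGroup (Fin 2) F →* Module.End F (Matrix (Fin 2) (Fin 2) F) :=
  sandwich { toFun := fun g => g.1, map_one' := rfl, map_mul' := fun _ _ => rfl }
    (fun g => (g⁻¹ : Matrix.SpecialLinearGroup (Fin 2) F).1) (by simp)
    (fun a b => by rw [_root_.mul_inv_rev]; rfl)

variable {F}

theorem adj_entries (g : Matrix.SpecialLinearGroup (Fin 2) F) :
    (g⁻¹ : Matrix.SpecialLinearGroup (Fin 2) F).1 = !![g.1 1 1, -g.1 0 1; -g.1 1 0, g.1 0 0] := by
  rw [Matrix.SpecialLinearGroup.coe_inv, Matrix.adjugate_fin_two]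

theorem det_entries (g : Matrix.SpecialLinearGroup (Fin 2) F) :
    g.1 0 0 * g.1 1 1 - g.1 0 1 * g.1 1 0 = 1 := by
  rw [← Matrix.det_fin_two]; exact g.2

theorem actThree_apply (g : Matrix.SpecialLinearGroup (Fin 2) F) (X : Matrix (Fin 2) (Fin 2) F) :
    actThree F g X = g.1 * (X * !![g.1 1 1, -g.1 0 1; -g.1 1 0, g.1 0 0]) := by
  rw [← adj_entries g]; rfl

theorem actThree_stable (g : Matrix.SpecialLinearGroup (Fin 2) F) (v : Unit ⊕ (Fin 1 ⊕ Fin 1) → F) :
    embThree F (projThree F (actThree F g (embThree F v))) = actThree F g (embThree F v) := by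
  rw [actThree_apply]
  ext i j
  fin_cases i <;> fin_cases j <;> simp [embThree, projThree, Matrix.mul_apply, Fin.sum_univ_two] <;> ring

theorem actThree_quad (g : Matrix.SpecialLinearGroup (Fin 2) F) (v : Unit ⊕ (Fin 1 ⊕ Fin 1) → F) :
    Cfsg.quadFormOdd 1 F (projThree F (actThree F g (embThree F v))) = Cfsg.quadFormOdd 1 F v := by
  rw [actThree_apply]
  have hd := det_entries g
  simp [embThree, projThree, Cfsg.quadFormOdd, Matrix.mul_apply, Fin.sum_univ_two]
  linear_combination (v (.inl ()) ^ 2 + v (.inr (.inl 0)) * v (.inr (.inr 0))) *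
    (g.1 0 0 * g.1 1 1 - g.1 0 1 * g.1 1 0 + 1) * hd

variable (F) in
/-- `SL_2 → O_3` -/
noncomputable def repThree :
    Matrix.SpecialLinearGroup (Fin 2) F →* Cfsg.isometryGroup F (Cfsg.quadFormOdd 1 F) :=
  modelHom _ (actThree F) (embThree F) (projThree F)
    (fun v => by funext i; rcases i with i | i | i <;> fin_cases i <;> rfl)
    actThree_stable actThree_quad

theorem ker_repThree : (repThree F).ker = Subgroup.center (Matrix.SpecialLinearGroup (Fin 2) F) := by
  ext g
  rw [repThree, mem_ker_modelHom, mem_center_SL_two]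
  have hd := det_entries g
  constructor
  · intro h
    have e1 := h (Sum.elim 0 (Sum.elim 1 0))
    have e2 := h (Sum.elim 0 (Sum.elim 0 1))
    rw [actThree_apply] at e1 e2
    have a1 := congrFun (congrFun e1 1) 0
    have a2 := congrFun (congrFun e1 0) 1
    have b1 := congrFun (congrFun e2 0) 1
    simp [embThree, Matrix.mul_apply, Fin.sum_univ_two] at a1 a2 b1
    refine ⟨b1, a1, ?_⟩
    linear_combination (-g.1 0 0) * hd + g.1 1 1 * a2 - g.1 0 0 * g.1 0 1 * a1
  · intro h v
    exact center_conj (mem_center_SL_two.2 h) _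

theorem nonempty_POmega_three [Fintype F] (hodd : Odd (Fintype.card F)) :
    Nonempty (Cfsg.POmega F (Cfsg.quadFormOdd 1 F) ≃* Matrix.ProjectiveSpecialLinearGroup (Fin 2) F) := by
  classical
  have h2 := two_ne_zero_of_odd_card hodd
  have he : ¬ Even (Fintype.card F) := Nat.not_even_iff_odd.2 hodd
  refine nonempty_POmega_mulEquiv (twoFree_SL h2) (repThree F) ker_repThree.le ?_ ?_
  · rw [ker_repThree, natCard_center_SL_two, if_neg he]
  · refine range_eq_omega (StdForms.oddQ F 1) (StdForms.coe_oddQ F 1)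
      (fun _ => StdForms.oddQ_nondegenerate h2 1) (by simp) _ (Or.inr ⟨twoFree_SL h2, h2⟩) ?_
    rw [natCard_isometryGroup_odd h2, ker_repThree, natCard_center_SL_two, natCard_SL_two, if_neg he,
      if_neg he, Nat.card_eq_fintype_card]
    simp
    ring

section plus

variable (F)

/-- `2 × 2` matrices with `det` as quadratic form -/
def embPlus : (Fin 2 ⊕ Fin 2 → F) →ₗ[F] Matrix (Fin 2) (Fin 2) F where
  toFun v := !![v (.inl 0), v (.inl 1); -v (.inr 1), v (.inr 0)]
  map_add' u v := by ext i j; fin_cases i <;> fin_cases j <;> simp <;> ring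
  map_smul' c v := by ext i j; fin_cases i <;> fin_cases j <;> simp

/-- inverse of `embPlus` -/
def projPlus : Matrix (Fin 2) (Fin 2) F →ₗ[F] (Fin 2 ⊕ Fin 2 → F) where
  toFun X := Sum.elim ![X 0 0, X 0 1] ![X 1 1, -X 1 0]
  map_add' X Y := by funext i; rcases i with i | i <;> fin_cases i <;> simp <;> ring
  map_smul' c X := by funext i; rcases i with i | i <;> fin_cases i <;> simp

/-- `X ↦ g X h⁻¹` -/
noncomputable def actPlus : Matrix.SpecialLinearGroup (Fin 2) F × Matrix.SpecialLinearGroup (Fin 2) F →*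
    Module.End F (Matrix (Fin 2) (Fin 2) F) :=
  sandwich { toFun := fun g => g.1.1, map_one' := rfl, map_mul' := fun _ _ => rfl }
    (fun g => (g.2⁻¹ : Matrix.SpecialLinearGroup (Fin 2) F).1) (by simp)
    (fun a b => by rw [Prod.snd_mul, _root_.mul_inv_rev]; rfl)

variable {F}

theorem embPlus_projPlus (X : Matrix (Fin 2) (Fin 2) F) : embPlus F (projPlus F X) = X := by
  ext i j
  fin_cases i <;> fin_cases j <;> simp [embPlus, projPlus]

theorem det_embPlus (v : Fin 2 ⊕ Fin 2 → F) :
    Matrix.det (embPlus F v) = Cfsg.quadFormPlus 2 F v := by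
  simp [embPlus, Cfsg.quadFormPlus, Fin.sum_univ_two, Matrix.det_fin_two]

variable (F) in
/-- `SL_2 × SL_2 → O⁺_4` -/
noncomputable def repPlus : Matrix.SpecialLinearGroup (Fin 2) F × Matrix.SpecialLinearGroup (Fin 2) F →*
    Cfsg.isometryGroup F (Cfsg.quadFormPlus 2 F) :=
  modelHom _ (actPlus F) (embPlus F) (projPlus F)
    (fun v => by funext i; rcases i with i | i <;> fin_cases i <;> simp [embPlus, projPlus])
    (fun _ _ => embPlus_projPlus _)
    (fun s v => by
      rw [← det_embPlus, embPlus_projPlus, ← det_embPlus]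
      show Matrix.det (s.1.1 * (embPlus F v * (s.2⁻¹).1)) = _
      rw [Matrix.det_mul, Matrix.det_mul, s.1.2, (s.2⁻¹).2, one_mul, mul_one])

theorem mem_ker_repPlus {s : Matrix.SpecialLinearGroup (Fin 2) F × Matrix.SpecialLinearGroup (Fin 2) F} :
    s ∈ (repPlus F).ker ↔ s.1 ∈ Subgroup.center _ ∧ s.2 = s.1 := by
  obtain ⟨g, h⟩ := s
  rw [repPlus, mem_ker_modelHom]
  constructor
  · intro hv
    have hX : ∀ X : Matrix (Fin 2) (Fin 2) F, g.1 * X = X * h.1 := by
      intro X
      have := hv (projPlus F X)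
      rw [embPlus_projPlus] at this
      have e : g.1 * (X * (h⁻¹).1) = X := this
      calc g.1 * X = g.1 * (X * ((h⁻¹ * h : Matrix.SpecialLinearGroup (Fin 2) F)).1) := by
            rw [inv_mul_cancel]; simp
        _ = (g.1 * (X * (h⁻¹).1)) * h.1 := by
            rw [Matrix.SpecialLinearGroup.coe_mul]; simp only [Matrix.mul_assoc]
        _ = X * h.1 := by rw [e]
    have hgh : h = g := Subtype.ext (by simpa using (hX 1).symm)
    subst hgh
    exact ⟨Subgroup.mem_center_iff.2 fun k => Subtype.ext (hX k.1).symm, rfl⟩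
  · rintro ⟨hc, he⟩ v
    obtain rfl : h = g := he
    exact center_conj hc _

theorem natCard_ker_repPlus :
    Nat.card (repPlus F).ker = Nat.card (Subgroup.center (Matrix.SpecialLinearGroup (Fin 2) F)) := by
  refine Nat.card_congr ⟨fun s => ⟨s.1.1, (mem_ker_repPlus.1 s.2).1⟩,
    fun g => ⟨(g.1, g.1), mem_ker_repPlus.2 ⟨g.2, rfl⟩⟩, fun s => ?_, fun g => rfl⟩
  exact Subtype.ext (Prod.ext rfl (mem_ker_repPlus.1 s.2).2.symm)

theorem center_prod_eq (G H : Type*) [Group G] [Group H] :
    Subgroup.center (G × H) = (Subgroup.center G).prod (Subgroup.center H) := by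
  ext ⟨a, b⟩
  rw [Subgroup.mem_prod, Subgroup.mem_center_iff, Subgroup.mem_center_iff, Subgroup.mem_center_iff]
  exact ⟨fun h => ⟨fun x => congrArg Prod.fst (h (x, 1)), fun y => congrArg Prod.snd (h (1, y))⟩,
    fun h p => Prod.ext (h.1 p.1) (h.2 p.2)⟩

theorem nonempty_quotient_center_prod (G H : Type*) [Group G] [Group H] :
    Nonempty ((G × H) ⧸ Subgroup.center (G × H) ≃* (G ⧸ Subgroup.center G) × (H ⧸ Subgroup.center H)) := by
  let f : G × H →* (G ⧸ Subgroup.center G) × (H ⧸ Subgroup.center H) :=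
    MonoidHom.prodMap (QuotientGroup.mk' _) (QuotientGroup.mk' _)
  have hf : Function.Surjective f :=
    Function.Surjective.prodMap (QuotientGroup.mk'_surjective _) (QuotientGroup.mk'_surjective _)
  have hk : f.ker = Subgroup.center (G × H) := by
    rw [center_prod_eq, MonoidHom.ker_prodMap, QuotientGroup.ker_mk', QuotientGroup.ker_mk']
  exact ⟨(QuotientGroup.quotientMulEquivOfEq hk).symm.trans
    (QuotientGroup.quotientKerEquivOfSurjective f hf)⟩

theorem nonempty_POmega_plus_four [Fintype F] (hF : 3 ≤ Fintype.card F) :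
    Nonempty (Cfsg.POmega F (Cfsg.quadFormPlus 2 F)
      ≃* Matrix.ProjectiveSpecialLinearGroup (Fin 2) F × Matrix.ProjectiveSpecialLinearGroup (Fin 2) F) := by
  classical
  have hperf : (2 : F) = 0 → commutator (Matrix.SpecialLinearGroup (Fin 2) F) = ⊤ := fun h2 =>
    LinGroup.commutator_SL_fin_eq_top le_rfl fun _ => by
      obtain ⟨k, hk⟩ := two_eq_zero_iff_even_card.1 h2
      rw [Nat.card_eq_fintype_card]; omega
  have hfree : TwoFree (Matrix.SpecialLinearGroup (Fin 2) F) := by
    by_cases h2 : (2 : F) = 0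
    · exact twoFree_of_commutator (hperf h2)
    · exact twoFree_SL h2
  have hS : TwoFree (Matrix.SpecialLinearGroup (Fin 2) F × Matrix.SpecialLinearGroup (Fin 2) F) :=
    hfree.prod hfree
  have hker : (repPlus F).ker ≤ Subgroup.center _ := fun s hs => by
    obtain ⟨hc, he⟩ := mem_ker_repPlus.1 hs
    rw [center_prod_eq]
    exact ⟨hc, by rw [he]; exact hc⟩
  obtain ⟨e⟩ := nonempty_POmega_mulEquiv hS (repPlus F) hker (by
      rw [natCard_ker_repPlus, natCard_center_SL_two]; split_ifs <;> norm_num) (by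
    refine range_eq_omega (StdForms.plusQ F 2) (StdForms.coe_plusQ F 2)
      (fun _ => StdForms.plusQ_nondegenerate 2) (by simp) _ ?_ ?_
    · by_cases h2 : (2 : F) = 0
      · left
        rw [commutator_def, show (⊤ : Subgroup (Matrix.SpecialLinearGroup (Fin 2) F × _)) =
          (⊤ : Subgroup (Matrix.SpecialLinearGroup (Fin 2) F)).prod ⊤ from (Subgroup.top_prod_top).symm,
          Subgroup.commutator_prod_prod, ← commutator_def, hperf h2]
      · exact Or.inr ⟨hS, h2⟩
    rw [natCard_isometryGroup_plus, natCard_ker_repPlus, natCard_center_SL_two, Nat.card_prod,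
      natCard_SL_two, Nat.card_eq_fintype_card]
    simp only [Finset.prod_range_one]
    split_ifs <;> ring)
  exact ⟨e.trans (nonempty_quotient_center_prod _ _).some⟩

end plus

end Cfsg.Agent.Lib.Classical.LowRank
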